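import Groth.Agent.ExtMultLib.Split
import Groth.Agent.MultTypeLib.Change
import Groth.Agent.MultTypeLib.Field
import Groth.Agent.MultTypeLib.Artin
import Groth.Agent.MultTypeLib.Build
import Groth.Agent.QRepLib.Naive
import Groth.Agent.S16065
import Groth.Prelude.Def_SGA3b
import Mathlib.FieldTheory.Galois.Infinite
import Mathlib.FieldTheory.IsAlgClosed.AlgebraicClosure

/-!
# Extensions of a smooth connected unipotent group by a group of multiplicative type over a perfect field
-/

universe u

set_option autoImplicit false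
set_option backward.isDefEq.respectTransparency false
set_option backward.isDefEq.respectTransparency.types false

open TensorProduct WithConv

namespace Groth.Agent.ExtMultLib

open MultTypeLib (mA)

/-- A fixed tensor is defined over the ground field. -/
theorem exists_one_tmul_of_fixed {k K : Type u} [Field k] [Field K] [Algebra k K] [IsGalois k K]
    {V : Type u} [AddCommGroup V] [Module k V] (z : K ⊗[k] V)
    (hz : ∀ σ : K ≃ₐ[k] K, (σ : K →ₐ[k] K).toLinearMap.rTensor V z = z) : ∃ v : V, (1 : K) ⊗ₜ[k] v = z := by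
  classical
  let b := Module.Free.chooseBasis k V
  let c := TensorProduct.equivFinsuppOfBasisRight b z
  have hfix : ∀ i, ∃ x : k, algebraMap k K x = c i := by
    intro i
    have hmem : c i ∈ (⊥ : IntermediateField k K) := by
      rw [InfiniteGalois.mem_bot_iff_fixed]
      intro σ
      have e : ∀ w : K ⊗[k] V, TensorProduct.equivFinsuppOfBasisRight b ((σ : K →ₐ[k] K).toLinearMap.rTensor V w) i =
          σ (TensorProduct.equivFinsuppOfBasisRight b w i) := fun w => by
        induction w using TensorProduct.induction_on with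
        | zero => simp
        | tmul a v => simp [TensorProduct.equivFinsuppOfBasisRight_apply_tmul_apply]
        | add x y hx hy => simp only [map_add, Finsupp.add_apply, hx, hy]
      have h2 := e z
      rw [hz σ] at h2
      exact h2.symm
    exact IntermediateField.mem_bot.mp hmem
  choose x hx using hfix
  refine ⟨∑ i ∈ c.support, x i • b i, ?_⟩
  conv_rhs => rw [← (TensorProduct.equivFinsuppOfBasisRight b).symm_apply_apply z,
    TensorProduct.equivFinsuppOfBasisRight_symm_apply]
  rw [TensorProduct.tmul_sum]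
  refine Finset.sum_congr rfl fun i _ => ?_
  rw [← TensorProduct.smul_tmul, ← Algebra.algebraMap_eq_smul_one, hx]

variable {k : Type u} [Field k] [PerfectField k] {A C : Type u} [CommRing A] [HopfAlgebra k A] [Algebra.FiniteType k A]
  [CommRing C] [HopfAlgebra k C] [Algebra.FiniteType k C] [Algebra.FormallySmooth k C]

/-- Existence and uniqueness of the retraction. -/
theorem existsUnique_retraction (hC : HopfRep.IsUnipotent k C) (ψ : C →ₐc[k] A) (hψ : Function.Injective ψ)
    (J : Ideal A) [J.IsHopfIdeal k] (hJ : J = Ideal.map (ψ : C →+* A) (RingHom.ker (Bialgebra.counitAlgHom k C)))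
    (hH : SGA3b.IsMultTypeConst k (A ⧸ J)) (hconn : ∀ e : C, IsIdempotentElem e → e = 0 ∨ e = 1) :
    ∃! r : A →ₐc[k] C, r.comp ψ = BialgHom.id k C := by
  classical
  let K := AlgebraicClosure k
  haveI : IsGalois k K := inferInstance
  let q := Bialgebra.Quotient.mkBialgHom (R := k) J
  haveI : Algebra.FiniteType k (A ⧸ J) := .of_surjective (Ideal.Quotient.mkₐ k J) Ideal.Quotient.mk_surjective
  have hdiag : SGA3b.IsDiag K (K ⊗[k] (A ⧸ J)) := by
    obtain ⟨R, _, _, hff, hd⟩ := hH
    haveI := hff
    obtain ⟨k', _, _, _, _, M', _, -, hd'⟩ :=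
      MultTypeLib.isotrivial_of_field k (A ⧸ J) inferInstance (MultTypeLib.isMultType_of_ff R hd)
    letI : Algebra k' K := (IsAlgClosed.lift (R := k) (S := k') (M := K)).toRingHom.toAlgebra
    haveI : IsScalarTower k k' K :=
      IsScalarTower.of_algebraMap_eq fun x => ((IsAlgClosed.lift (R := k) (S := k') (M := K)).commutes x).symm
    exact MultTypeLib.isDiag_baseChange k' K ⟨M', _, hd'⟩
  obtain ⟨M, _, ⟨e⟩⟩ := hdiag
  let ψK : K ⊗[k] C →ₐc[K] K ⊗[k] A := Bialgebra.TensorProduct.map (BialgHom.id K K) ψ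
  let qK : K ⊗[k] A →ₐc[K] K ⊗[k] (A ⧸ J) := Bialgebra.TensorProduct.map (BialgHom.id K K) q
  have hqs : Function.Surjective qK := fun z => by
    induction z using TensorProduct.induction_on with
    | zero => exact ⟨0, map_zero _⟩
    | tmul x t =>
      obtain ⟨a, rfl⟩ := Ideal.Quotient.mk_surjective t
      exact ⟨x ⊗ₜ a, rfl⟩
    | add x y hx hy =>
      obtain ⟨a, rfl⟩ := hx
      obtain ⟨b, rfl⟩ := hy
      exact ⟨a + b, map_add _ _ _⟩
  let E : Ext K (K ⊗[k] A) (K ⊗[k] C) M :=
    { ψ := ψK
      t := (e : K ⊗[k] (A ⧸ J) →ₐc[K] MonoidAlgebra K M).comp qK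
      inj := Module.Flat.lTensor_preserves_injective_linearMap (M := K) (ψ : C →ₐ[k] A).toLinearMap hψ
      surj := e.surjective.comp hqs
      ker := fun z => by
        have h1 : ((e : K ⊗[k] (A ⧸ J) →ₐc[K] MonoidAlgebra K M).comp qK) z = 0 ↔ qK z = 0 :=
          ⟨fun h => e.injective (h.trans (map_zero e).symm), fun h => (congrArg e h).trans (map_zero e)⟩
        rw [h1]
        have h2 : qK z = 0 ↔ z ∈ RingHom.ker (Algebra.TensorProduct.map (AlgHom.id k K) (Ideal.Quotient.mkₐ k J)) := Iff.rfl
        rw [h2, Algebra.TensorProduct.lTensor_ker _ Ideal.Quotient.mk_surjective]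
        rw [show RingHom.ker (Ideal.Quotient.mkₐ k J) = J from Ideal.mk_ker, hJ]
        constructor
        · intro hz
          refine (Ideal.map_le_iff_le_comap.mpr (Ideal.map_le_iff_le_comap.mpr fun c hc => ?_) : _ ≤ _) hz
          refine Ideal.mem_map_of_mem (ψK : K ⊗[k] C →+* K ⊗[k] A) (x := (1 : K) ⊗ₜ[k] c) ?_
          show Coalgebra.counit (R := K) ((1 : K) ⊗ₜ[k] c) = 0
          simp [show Coalgebra.counit (R := k) c = 0 from hc]
        · intro hz
          refine (Ideal.map_le_iff_le_comap.mpr fun d hd => ?_ : _ ≤ _) hz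
          show ψK d ∈ Ideal.map (Algebra.TensorProduct.includeRight : A →ₐ[k] K ⊗[k] A)
            (Ideal.map (ψ : C →+* A) (RingHom.ker (Bialgebra.counitAlgHom k C)))
          have hd' : Coalgebra.counit (R := K) d = 0 := hd
          have key : ∀ d : K ⊗[k] C, ψK d - (1 : K ⊗[k] A) * algebraMap K _ (Coalgebra.counit (R := K) d) ∈
              Ideal.map (Algebra.TensorProduct.includeRight : A →ₐ[k] K ⊗[k] A)
                (Ideal.map (ψ : C →+* A) (RingHom.ker (Bialgebra.counitAlgHom k C))) := fun d => by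
            induction d using TensorProduct.induction_on with
            | zero => simp
            | tmul x c =>
              have hc : (1 : K) ⊗ₜ[k] (ψ (c - algebraMap k C (Coalgebra.counit (R := k) c))) ∈
                  Ideal.map (Algebra.TensorProduct.includeRight : A →ₐ[k] K ⊗[k] A)
                    (Ideal.map (ψ : C →+* A) (RingHom.ker (Bialgebra.counitAlgHom k C))) :=
                Ideal.mem_map_of_mem _ (Ideal.mem_map_of_mem (ψ : C →+* A) (RingHom.mem_ker.mpr (by simp)))
              have : ψK (x ⊗ₜ[k] c) - (1 : K ⊗[k] A) * algebraMap K _ (Coalgebra.counit (R := K) (x ⊗ₜ[k] c)) =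
                  (x ⊗ₜ[k] (1 : A)) * ((1 : K) ⊗ₜ[k] ψ (c - algebraMap k C (Coalgebra.counit (R := k) c))) := by
                rw [map_sub, TensorProduct.tmul_sub, mul_sub, Algebra.TensorProduct.tmul_mul_tmul, mul_one, one_mul,
                  Algebra.TensorProduct.tmul_mul_tmul, mul_one, one_mul, one_mul, AlgHomClass.commutes]
                congr 1
                rw [TensorProduct.counit_tmul, Algebra.TensorProduct.algebraMap_apply, Algebra.algebraMap_eq_smul_one (R := k),
                  TensorProduct.tmul_smul, TensorProduct.smul_tmul']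
                simp
              rw [this]
              exact Ideal.mul_mem_left _ _ hc
            | add x y hx hy => rw [map_add, map_add, map_add, mul_add, add_sub_add_comm]; exact Ideal.add_mem _ hx hy
          have := key d
          rwa [hd', map_zero, mul_zero, sub_zero] at this }
  haveI : Algebra.FinitePresentation k C := Algebra.FinitePresentation.of_finiteType.mp inferInstance
  haveI : Algebra.Smooth k C := ⟨inferInstance, inferInstance⟩
  haveI : Algebra.Smooth K (K ⊗[k] C) := inferInstance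
  haveI : _root_.IsReduced (K ⊗[k] C) := QRepLib.isReduced_of_smooth_algebra K _
  have hconnK := TakeuchiLib.noIdem_field (k := k) hconn K
  have hUK := TakeuchiLib.isUnipotent_baseChange (K := K) hC
  obtain ⟨rK, hr, huniq⟩ := E.exists_retraction hconnK hUK
  have hinj : ∀ {V : Type u} [CommRing V] [Algebra k V], Function.Injective (fun v : V => (1 : K) ⊗ₜ[k] v) :=
    fun {V} _ _ => Algebra.TensorProduct.includeRight_injective (R := k) (A := K) (B := V) (algebraMap k K).injective
  have hfixed : ∀ a : A, ∀ σ : K ≃ₐ[k] K,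
      (σ : K →ₐ[k] K).toLinearMap.rTensor C (rK ((1 : K) ⊗ₜ[k] a)) = rK ((1 : K) ⊗ₜ[k] a) := by
    intro a σ
    let r' : K ⊗[k] A →ₐ[K] K ⊗[k] C :=
      { toRingHom := ((mA C (σ : K →ₐ[k] K)).toRingHom.comp (rK : K ⊗[k] A →ₐ[K] K ⊗[k] C).toRingHom).comp
          (mA A (σ.symm : K →ₐ[k] K)).toRingHom
        commutes' := fun x => by
          show mA C (σ : K →ₐ[k] K) ((rK : K ⊗[k] A →ₐ[K] K ⊗[k] C) (mA A (σ.symm : K →ₐ[k] K) (x ⊗ₜ[k] 1))) = x ⊗ₜ[k] 1
          rw [Algebra.TensorProduct.map_tmul, map_one]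
          show mA C (σ : K →ₐ[k] K) ((rK : K ⊗[k] A →ₐ[K] K ⊗[k] C) (algebraMap K _ (σ.symm x))) = _
          rw [AlgHom.commutes]
          show mA C (σ : K →ₐ[k] K) (σ.symm x ⊗ₜ[k] (1 : C)) = _
          simp }
    have hr' : r' = (rK : K ⊗[k] A →ₐ[K] K ⊗[k] C) := by
      refine AlgHom.ext (huniq r' (fun c => ?_) fun G hG => ?_)
      · show mA C (σ : K →ₐ[k] K) (rK (mA A (σ.symm : K →ₐ[k] K) (ψK c))) = c
        have e1 : mA A (σ.symm : K →ₐ[k] K) (ψK c) = ψK (mA C (σ.symm : K →ₐ[k] K) c) := by
          induction c using TensorProduct.induction_on with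
          | zero => simp
          | tmul x c => rfl
          | add x y hx hy => simp only [map_add, hx, hy]
        rw [e1, hr, MultTypeLib.mA_comp,
          show ((σ : K →ₐ[k] K).comp (σ.symm : K →ₐ[k] K)) = AlgHom.id k K from AlgHom.ext fun x => σ.apply_symm_apply x]
        simp
      · show mA C (σ : K →ₐ[k] K) (rK (mA A (σ.symm : K →ₐ[k] K) G)) = 1
        rw [Ext.groupLike_eq_one hconnK hUK ((MultTypeLib.isGroupLike_mA _ hG).map rK), map_one]
    have h := AlgHom.congr_fun hr' ((1 : K) ⊗ₜ[k] a)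
    change mA C (σ : K →ₐ[k] K) (rK (mA A (σ.symm : K →ₐ[k] K) ((1 : K) ⊗ₜ[k] a))) = rK ((1 : K) ⊗ₜ[k] a) at h
    rw [Algebra.TensorProduct.map_tmul, map_one, AlgHom.id_apply] at h
    conv_rhs => rw [← h]
    induction rK ((1 : K) ⊗ₜ[k] a) using TensorProduct.induction_on with
    | zero => simp
    | tmul x c => simp
    | add x y hx hy => simp only [map_add, hx, hy]
  choose r0 hr0 using fun a => exists_one_tmul_of_fixed (K := K) (rK ((1 : K) ⊗ₜ[k] a)) (hfixed a)
  let ra : A →ₐ[k] C := AlgHom.ofLinearMap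
    { toFun := r0
      map_add' := fun x y => hinj (by
        show (1 : K) ⊗ₜ[k] r0 (x + y) = (1 : K) ⊗ₜ[k] (r0 x + r0 y)
        rw [TensorProduct.tmul_add, hr0, hr0, hr0, TensorProduct.tmul_add, map_add])
      map_smul' := fun c x => hinj (by
        show (1 : K) ⊗ₜ[k] r0 (c • x) = (1 : K) ⊗ₜ[k] (c • r0 x)
        rw [TensorProduct.tmul_smul, hr0, hr0, TensorProduct.tmul_smul, ← algebraMap_smul K c ((1 : K) ⊗ₜ[k] x), map_smul,
          algebraMap_smul]) }
    (hinj (by
      show (1 : K) ⊗ₜ[k] r0 1 = (1 : K) ⊗ₜ[k] (1 : C)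
      rw [hr0, ← Algebra.TensorProduct.one_def, map_one]
      rfl))
    (fun x y => hinj (by
      show (1 : K) ⊗ₜ[k] r0 (x * y) = (1 : K) ⊗ₜ[k] (r0 x * r0 y)
      rw [show (1 : K) ⊗ₜ[k] (r0 x * r0 y) = ((1 : K) ⊗ₜ[k] r0 x) * ((1 : K) ⊗ₜ[k] r0 y) by simp, hr0, hr0, hr0, ← map_mul]
      simp))
  let g : MultTypeLib.SemiBialgHom k K A (K ⊗[k] C) :=
    (MultTypeLib.SemiBialgHom.ofBialgHom rK).comp (MultTypeLib.SemiBialgHom.baseChange k K A)
  have hg : ∀ a, g.toAlgHom a = (MultTypeLib.SemiBialgHom.baseChange k K C).toAlgHom (ra a) := fun a => (hr0 a).symm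
  let r : A →ₐc[k] C := BialgHom.ofAlgHom ra (AlgHom.ext fun a => by
      have h1 := g.counit_comp a
      rw [hg, (MultTypeLib.SemiBialgHom.baseChange k K C).counit_comp] at h1
      exact (algebraMap k K).injective h1) (AlgHom.ext fun a => by
      refine S16065.sq_injective (k' := K) ?_
      have h1 := g.comul_comp a
      rw [hg, (MultTypeLib.SemiBialgHom.baseChange k K C).comul_comp] at h1
      refine Eq.trans ?_ h1.symm
      show MultTypeLib.sq K _ (Algebra.TensorProduct.map ra ra (Coalgebra.comul (R := k) a)) = _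
      generalize Coalgebra.comul (R := k) a = z
      induction z using TensorProduct.induction_on with
      | zero => simp
      | add x y hx hy => simp only [map_add, hx, hy]
      | tmul x y => simp [hg])
  refine ⟨r, DFunLike.ext _ _ fun c => hinj ?_, fun r₁ hr₁ => ?_⟩
  · show (1 : K) ⊗ₜ[k] r0 (ψ c) = (1 : K) ⊗ₜ[k] c
    rw [hr0]
    exact hr ((1 : K) ⊗ₜ[k] c)
  · let r₁K : K ⊗[k] A →ₐc[K] K ⊗[k] C := Bialgebra.TensorProduct.map (BialgHom.id K K) r₁
    have h := huniq (r₁K : K ⊗[k] A →ₐ[K] K ⊗[k] C) (fun c => ?_) fun G hG => Ext.groupLike_eq_one hconnK hUK (hG.map r₁K)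
    · refine DFunLike.ext _ _ fun a => hinj ?_
      show (1 : K) ⊗ₜ[k] r₁ a = (1 : K) ⊗ₜ[k] r0 a
      rw [hr0, ← h]
      rfl
    · show r₁K (ψK c) = c
      induction c using TensorProduct.induction_on with
      | zero => simp
      | tmul x c =>
        show x ⊗ₜ[k] r₁ (ψ c) = x ⊗ₜ[k] c
        rw [show r₁ (ψ c) = c from DFunLike.congr_fun hr₁ c]
      | add x y hx hy => simp only [map_add, hx, hy]

end Groth.Agent.ExtMultLib
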