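import Groth.Agent.TakeuchiLib.UnitsConst
import Groth.Prelude.Def_Lie2
import Groth.Agent.ComodLib.Antipode
import Groth.Agent.ComodLib.ReducedSmooth
import Mathlib.RingTheory.HopfAlgebra.MonoidAlgebra
import Mathlib.RingTheory.Nullstellensatz
import Mathlib.RingTheory.Jacobson.Ring

/-!
# Extensions of a connected unipotent group by a diagonalizable group: the grading
-/

universe u

set_option autoImplicit false
set_option backward.isDefEq.respectTransparency false
set_option backward.isDefEq.respectTransparency.types false

open TensorProduct WithConv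

namespace Groth.Agent.ExtMultLib

open ComodLib (actF slice)
open TakeuchiLib (coeffMap)

/-- An extension of `Spec C` by `D(M)`. -/
structure Ext (K A C M : Type u) [Field K] [CommRing A] [HopfAlgebra K A] [CommRing C] [HopfAlgebra K C]
    [CommGroup M] where
  /-- the comorphism of the projection -/
  ψ : C →ₐc[K] A
  /-- the comorphism of the inclusion of the kernel -/
  t : A →ₐc[K] MonoidAlgebra K M
  inj : Function.Injective ψ
  surj : Function.Surjective t
  ker : ∀ a, t a = 0 ↔ a ∈ Ideal.map (ψ : C →+* A) (RingHom.ker (Bialgebra.counitAlgHom K C))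

variable {K A C M : Type u} [Field K] [CommRing A] [HopfAlgebra K A] [CommRing C] [HopfAlgebra K C] [CommGroup M]

/-- The dual functional of a group element. -/
noncomputable def coeffFun (m : M) : MonoidAlgebra K M →ₗ[K] K :=
  Finsupp.lapply m ∘ₗ (MonoidAlgebra.coeffLinearEquiv K).toLinearMap

theorem coeffFun_single [DecidableEq M] (m n : M) (c : K) :
    coeffFun m (MonoidAlgebra.single n c) = if n = m then c else 0 := by
  simp [coeffFun, Finsupp.single_apply]

namespace Ext

variable (E : Ext K A C M)

/-- The right translation by the kernel. -/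
noncomputable def rho : A →ₐ[K] A ⊗[K] MonoidAlgebra K M :=
  (Algebra.TensorProduct.map (AlgHom.id K A) (E.t : A →ₐ[K] MonoidAlgebra K M)).comp (Bialgebra.comulAlgHom K A)

/-- The left translation by the kernel. -/
noncomputable def lam : A →ₐ[K] MonoidAlgebra K M ⊗[K] A :=
  (Algebra.TensorProduct.map (E.t : A →ₐ[K] MonoidAlgebra K M) (AlgHom.id K A)).comp (Bialgebra.comulAlgHom K A)

/-- The functional of a weight. -/
noncomputable def f (m : M) : A →ₗ[K] K := coeffFun m ∘ₗ (E.t : A →ₗ[K] MonoidAlgebra K M)

/-- Projection to a right weight. -/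
noncomputable def P (m : M) : A →ₗ[K] A := actF (E.f m)

/-- Projection to a left weight. -/
noncomputable def Q (m : M) : A →ₗ[K] A := coeffMap (E.f m)

theorem P_eq (m : M) (a : A) : E.P m a = slice (coeffFun m) (E.rho a) := by
  show slice (E.f m) (Coalgebra.comul (R := K) a) = slice (coeffFun m) (Algebra.TensorProduct.map (AlgHom.id K A) (E.t : A →ₐ[K] MonoidAlgebra K M) (Coalgebra.comul (R := K) a))
  induction Coalgebra.comul (R := K) a using TensorProduct.induction_on with
  | zero => simp
  | tmul x y => simp [f]
  | add x y hx hy => simp only [map_add, hx, hy]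

/-- Right weight spaces. -/
noncomputable def W (m : M) : Submodule K A where
  carrier := {a | E.rho a = a ⊗ₜ[K] MonoidAlgebra.single m (1 : K)}
  add_mem' := by
    intro a b ha hb
    simp only [Set.mem_setOf_eq] at ha hb ⊢
    rw [map_add, ha, hb, TensorProduct.add_tmul]
  zero_mem' := by simp
  smul_mem' := by
    intro c a ha
    simp only [Set.mem_setOf_eq] at ha ⊢
    rw [map_smul, ha, TensorProduct.smul_tmul']

theorem mem_W {m : M} {a : A} : a ∈ E.W m ↔ E.rho a = a ⊗ₜ[K] MonoidAlgebra.single m (1 : K) := Iff.rfl

theorem one_mem_W : (1 : A) ∈ E.W 1 := by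
  rw [mem_W, map_one, Algebra.TensorProduct.one_def, MonoidAlgebra.one_def]

theorem mul_mem_W {m n : M} {a b : A} (ha : a ∈ E.W m) (hb : b ∈ E.W n) : a * b ∈ E.W (m * n) := by
  rw [mem_W] at ha hb ⊢
  rw [map_mul, ha, hb, Algebra.TensorProduct.tmul_mul_tmul, MonoidAlgebra.single_mul_single, one_mul]

theorem conv_f [DecidableEq M] (m n : M) : LieHopf.conv (E.f m) (E.f n) = if m = n then E.f m else 0 := by
  refine LinearMap.ext fun a => ?_
  have h : ∀ x : MonoidAlgebra K M, LinearMap.mul' K K (TensorProduct.map (coeffFun m) (coeffFun n)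
      (Coalgebra.comul (R := K) x)) = if m = n then coeffFun m x else 0 := by
    intro x
    induction x using MonoidAlgebra.induction_linear with
    | zero => simp
    | add x y hx hy =>
      simp only [map_add, hx, hy]
      split <;> simp
    | single g c =>
      simp [MonoidAlgebra.comul_single, coeffFun_single]
      split_ifs <;> simp_all
  have e : LinearMap.mul' K K (TensorProduct.map (E.f m) (E.f n) (Coalgebra.comul (R := K) a)) =
      LinearMap.mul' K K (TensorProduct.map (coeffFun m) (coeffFun n) (Coalgebra.comul (R := K) (E.t a))) := by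
    rw [← CoalgHomClass.map_comp_comul_apply E.t a]
    induction Coalgebra.comul (R := K) a using TensorProduct.induction_on with
    | zero => simp
    | tmul x y => simp [f]
    | add x y hx hy => simp only [map_add, hx, hy]
  simp only [LieHopf.conv, LinearMap.comp_apply]
  rw [e, h]
  split <;> rfl

theorem P_P [DecidableEq M] (m n : M) (a : A) : E.P m (E.P n a) = if m = n then E.P m a else 0 := by
  show actF (E.f m) (actF (E.f n) a) = _
  rw [← ComodLib.actF_convMul (toConv (E.f m)) (toConv (E.f n)) a,
    show (toConv (E.f m) * toConv (E.f n)).ofConv = LieHopf.conv (E.f m) (E.f n) from rfl, conv_f]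
  split
  · rfl
  · rw [ComodLib.actF_zero]; rfl

theorem P_of_mem [DecidableEq M] {m : M} {a : A} (ha : a ∈ E.W m) (n : M) : E.P n a = if m = n then a else 0 := by
  rw [P_eq, (E.mem_W).mp ha, ComodLib.slice_tmul, coeffFun_single]
  split <;> simp

theorem exists_decomp (a : A) : ∃ s : Finset M, a = ∑ m ∈ s, E.P m a ∧ ∀ n ∉ s, E.P n a = 0 := by
  classical
  let b : Module.Basis M K (MonoidAlgebra K M) := Finsupp.basisSingleOne.map (MonoidAlgebra.coeffLinearEquiv K).symm
  let z := TensorProduct.equivFinsuppOfBasisRight b (E.rho a)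
  have hz : ∀ m, z m = E.P m a := fun m => by
    rw [P_eq]
    show TensorProduct.equivFinsuppOfBasisRight b (E.rho a) m = _
    rw [TensorProduct.equivFinsuppOfBasisRight_apply]
    induction E.rho a using TensorProduct.induction_on with
    | zero => simp
    | tmul x y => simp [b, coeffFun]
    | add x y hx hy => simp only [map_add, hx, hy]
  refine ⟨z.support, ?_, fun n hn => by rw [← hz]; exact Finsupp.notMem_support_iff.mp hn⟩
  have h1 : E.rho a = ∑ m ∈ z.support, z m ⊗ₜ[K] b m := by
    have := (TensorProduct.equivFinsuppOfBasisRight b).symm_apply_apply (E.rho a)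
    rw [TensorProduct.equivFinsuppOfBasisRight_symm_apply] at this
    exact this.symm
  have h2 : slice (Coalgebra.counit (R := K)) (E.rho a) = a := by
    show slice (Coalgebra.counit (R := K)) (Algebra.TensorProduct.map (AlgHom.id K A) (E.t : A →ₐ[K] MonoidAlgebra K M) (Coalgebra.comul (R := K) a)) = a
    conv_rhs => rw [← ComodLib.actF_counit (k := K) (C := A) a, ComodLib.actF_apply]
    show _ = slice (Coalgebra.counit (R := K)) (Coalgebra.comul (R := K) a)
    induction Coalgebra.comul (R := K) a using TensorProduct.induction_on with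
    | zero => simp
    | tmul x y => simp [CoalgHomClass.counit_comp_apply]
    | add x y hx hy => simp only [map_add, hx, hy]
  rw [h1, map_sum] at h2
  refine h2.symm.trans (Finset.sum_congr rfl fun m _ => ?_)
  rw [ComodLib.slice_tmul, hz, show Coalgebra.counit (R := K) (b m) = 1 by simp [b], one_smul]

theorem P_mem (m : M) (a : A) : E.P m a ∈ E.W m := by
  classical
  rw [mem_W]
  let b : Module.Basis M K (MonoidAlgebra K M) := Finsupp.basisSingleOne.map (MonoidAlgebra.coeffLinearEquiv K).symm
  refine (TensorProduct.equivFinsuppOfBasisRight b).injective (Finsupp.ext fun n => ?_)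
  rw [TensorProduct.equivFinsuppOfBasisRight_apply, TensorProduct.equivFinsuppOfBasisRight_apply]
  have e : ∀ z : A ⊗[K] MonoidAlgebra K M, TensorProduct.rid K A ((b.coord n).lTensor A z) = slice (coeffFun n) z := fun z => by
    induction z using TensorProduct.induction_on with
    | zero => simp
    | tmul x y => simp [b, coeffFun]
    | add x y hx hy => simp only [map_add, hx, hy]
  rw [e, e, ← P_eq, P_P, ComodLib.slice_tmul, coeffFun_single]
  by_cases h : n = m
  · subst h; simp
  · simp [h, Ne.symm h]

theorem Q_comm (φ : A →ₗ[K] K) (m : M) (a : A) : E.Q m (actF φ a) = actF φ (E.Q m a) :=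
  ComodLib.comodHom_actF (TakeuchiLib.isComodHom_coeffMap (E.f m)) φ a

theorem t_psi (c : C) : E.t (E.ψ c) = algebraMap K _ (Coalgebra.counit (R := K) c) := by
  have h : E.ψ (c - algebraMap K C (Coalgebra.counit (R := K) c)) ∈
      Ideal.map (E.ψ : C →+* A) (RingHom.ker (Bialgebra.counitAlgHom K C)) :=
    Ideal.mem_map_of_mem (E.ψ : C →+* A) (RingHom.mem_ker.mpr (by simp))
  rw [← E.ker, map_sub, AlgHomClass.commutes, map_sub, AlgHomClass.commutes, sub_eq_zero] at h
  exact h

theorem rho_psi (c : C) : E.rho (E.ψ c) = E.ψ c ⊗ₜ[K] (1 : MonoidAlgebra K M) := by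
  show Algebra.TensorProduct.map _ _ (Coalgebra.comul (R := K) (E.ψ c)) = _
  rw [← CoalgHomClass.map_comp_comul_apply E.ψ c]
  have e : ∀ z : C ⊗[K] C, Algebra.TensorProduct.map (AlgHom.id K A) (E.t : A →ₐ[K] MonoidAlgebra K M)
      (TensorProduct.map (E.ψ : C →ₗ[K] A) (E.ψ : C →ₗ[K] A) z) =
      E.ψ (slice (Coalgebra.counit (R := K)) z) ⊗ₜ[K] (1 : MonoidAlgebra K M) := fun z => by
    induction z using TensorProduct.induction_on with
    | zero => simp
    | tmul x y => simp [t_psi, Algebra.algebraMap_eq_smul_one, TensorProduct.smul_tmul]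
    | add x y hx hy => simp only [map_add, hx, hy, TensorProduct.add_tmul]
  refine (e _).trans ?_
  rw [show slice (Coalgebra.counit (R := K)) (Coalgebra.comul (R := K) c) = c from ComodLib.actF_counit c]

theorem psi_mem (c : C) : E.ψ c ∈ E.W 1 := by rw [mem_W, rho_psi, MonoidAlgebra.one_def]

theorem Q_psi [DecidableEq M] (c : C) (m : M) : E.Q m (E.ψ c) = if (1 : M) = m then E.ψ c else 0 := by
  show TensorProduct.lid K A ((E.f m).rTensor A (Coalgebra.comul (R := K) (E.ψ c))) = _
  rw [← CoalgHomClass.map_comp_comul_apply E.ψ c]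
  have e : ∀ z : C ⊗[K] C, TensorProduct.lid K A ((E.f m).rTensor A (TensorProduct.map (E.ψ : C →ₗ[K] A) (E.ψ : C →ₗ[K] A) z)) =
      (if (1 : M) = m then (1 : K) else 0) • E.ψ (TensorProduct.lid K C ((Coalgebra.counit (R := K)).rTensor C z)) := fun z => by
    induction z using TensorProduct.induction_on with
    | zero => simp
    | tmul x y => simp [f, t_psi, Algebra.algebraMap_eq_smul_one, MonoidAlgebra.one_def, coeffFun_single]
    | add x y hx hy => simp only [map_add, hx, hy, smul_add]
  refine (e _).trans ?_
  rw [Coalgebra.rTensor_counit_comul]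
  split <;> simp

variable [Algebra.FiniteType K A] [Algebra.FiniteType K C]

theorem mem_range_of_mem_W {a : A} (ha : a ∈ E.W 1) : a ∈ Set.range E.ψ := by
  refine TakeuchiLib.mem_range_of_invariant E.ψ E.inj a ?_
  have hex : Function.Exact ((Ideal.map (E.ψ : C →+* A) (RingHom.ker (Bialgebra.counitAlgHom K C))).restrictScalars K).subtype
      (E.t : A →ₗ[K] MonoidAlgebra K M) := LinearMap.exact_iff.mpr (by
    rw [Submodule.range_subtype]
    ext x
    exact E.ker x)
  refine (lTensor_exact A hex E.surj _).mp ?_
  rw [map_sub, LinearMap.lTensor_tmul, sub_eq_zero]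
  have e : E.rho a = LinearMap.lTensor A (E.t : A →ₗ[K] MonoidAlgebra K M) (Coalgebra.comul (R := K) a) := by
    show Algebra.TensorProduct.map _ _ (Coalgebra.comul (R := K) a) = _
    induction Coalgebra.comul (R := K) a using TensorProduct.induction_on with
    | zero => simp
    | tmul x y => simp
    | add x y hx hy => simp only [map_add, hx, hy]
  rw [← e, (E.mem_W).mp ha]
  simp [MonoidAlgebra.one_def]

omit [Algebra.FiniteType K A] [Algebra.FiniteType K C] in
theorem one_mem_mul (m : M) : (1 : A) ∈ E.W m⁻¹ * E.W m := by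
  classical
  obtain ⟨b, hb⟩ := E.surj (MonoidAlgebra.single m 1)
  have h1 : (1 : A) ∈ (⊤ : Submodule K A) * E.W m := by
    have hmain : LinearMap.mul' K A (TensorProduct.map (HopfAlgebra.antipode K) (E.P m) (Coalgebra.comul (R := K) b)) = 1 := by
      have hc : LinearMap.lTensor A (E.P m) (Coalgebra.comul (R := K) b) = Coalgebra.comul (R := K) (E.P m b) := by
        show LinearMap.lTensor A (actF (E.f m)) (Coalgebra.comul (R := K) b) = Coalgebra.comul (R := K) (actF (E.f m) b)
        rw [show Coalgebra.comul (R := K) (actF (E.f m) b) = HopfRep.Comod.coact (k := K) (A := A) (actF (E.f m) b) from rfl,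
          TakeuchiLib.coact_actF]
        rfl
      rw [← LinearMap.rTensor_comp_lTensor, LinearMap.comp_apply, hc, HopfAlgebra.mul_antipode_rTensor_comul_apply,
        show Coalgebra.counit (R := K) (E.P m b) = E.f m b from by
          show Coalgebra.counit (R := K) (slice (E.f m) (Coalgebra.comul (R := K) b)) = _
          have hs : ∀ z : A ⊗[K] A, Coalgebra.counit (R := K) (slice (E.f m) z) =
              E.f m (TensorProduct.lid K A ((Coalgebra.counit (R := K)).rTensor A z)) := fun z => by
            induction z using TensorProduct.induction_on with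
            | zero => simp
            | tmul x y => simp [mul_comm]
            | add x y hx hy => simp only [map_add, hx, hy]
          rw [hs, Coalgebra.rTensor_counit_comul]
          simp]
      simp [f, hb, coeffFun_single]
    rw [← hmain]
    clear hmain
    induction Coalgebra.comul (R := K) b using TensorProduct.induction_on with
    | zero => simp
    | tmul x y => simpa using Submodule.mul_mem_mul (Submodule.mem_top (x := HopfAlgebra.antipode K x)) (E.P_mem m y)
    | add x y hx hy => rw [map_add, map_add]; exact add_mem hx hy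
  have h2 : ∀ u ∈ (⊤ : Submodule K A) * E.W m, E.P 1 u ∈ E.W m⁻¹ * E.W m := by
    intro u hu
    refine Submodule.mul_induction_on hu (fun x _ y hy => ?_) fun x y hx hy => ?_
    ·
      obtain ⟨s, hs, -⟩ := E.exists_decomp x
      rw [hs, Finset.sum_mul, map_sum]
      refine Submodule.sum_mem _ fun n _ => ?_
      rw [E.P_of_mem (E.mul_mem_W (E.P_mem n x) hy) 1]
      split
      · next h =>
        rw [eq_inv_of_mul_eq_one_left h]
        exact Submodule.mul_mem_mul (E.P_mem _ x) hy
      · exact zero_mem _
    · rw [map_add]; exact add_mem hx hy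
  have := h2 1 h1
  rwa [E.P_of_mem E.one_mem_W 1, if_pos rfl] at this

omit [Algebra.FiniteType K A] [Algebra.FiniteType K C] in
theorem eq_zero_of_mul (m : M) (a : A) (h : ∀ x ∈ E.W m, a * x = 0) : a = 0 := by
  have key : ∀ u ∈ E.W m⁻¹ * E.W m, a * u = 0 := fun u hu => by
    refine Submodule.mul_induction_on hu (fun x _ y hy => ?_) fun x y hx hy => ?_
    · rw [mul_left_comm, h y hy, mul_zero]
    · rw [mul_add, hx, hy, add_zero]
  simpa using key 1 (E.one_mem_mul m)

/-- The kernel is central. -/
theorem Q_of_mem [DecidableEq M] (hconn : ∀ e : C, IsIdempotentElem e → e = 0 ∨ e = 1) {m : M} {a : A}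
    (ha : a ∈ E.W m) (n : M) : E.Q n a = if m = n then a else 0 := by
  have hstab : ∀ n, ∀ b ∈ E.W m, E.Q n b ∈ E.W m := by
    intro n b hb
    have : E.Q n b = E.P m (E.Q n b) := by
      conv_lhs => rw [show b = E.P m b by rw [E.P_of_mem hb, if_pos rfl]]
      exact E.Q_comm _ n b
    rw [this]
    exact E.P_mem m _
  have hlin : ∀ n, ∀ c ∈ E.W 1, ∀ b : A, E.Q n (c * b) = c * E.Q n b := by
    intro n c hc b
    obtain ⟨c, rfl⟩ := E.mem_range_of_mem_W hc
    show TensorProduct.lid K A ((E.f n).rTensor A (Coalgebra.comul (R := K) (E.ψ c * b))) = _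
    rw [Bialgebra.comul_mul, ← CoalgHomClass.map_comp_comul_apply E.ψ c]
    have e : ∀ (z : C ⊗[K] C) (w : A ⊗[K] A), TensorProduct.lid K A ((E.f n).rTensor A
        (TensorProduct.map (E.ψ : C →ₗ[K] A) (E.ψ : C →ₗ[K] A) z * w)) =
        E.ψ (TensorProduct.lid K C ((Coalgebra.counit (R := K)).rTensor C z)) * TensorProduct.lid K A ((E.f n).rTensor A w) := by
      intro z w
      induction z using TensorProduct.induction_on with
      | zero => simp
      | add x y hx hy => simp only [map_add, add_mul, hx, hy]
      | tmul x y =>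
        induction w using TensorProduct.induction_on with
        | zero => simp
        | add p q hp hq => simp only [map_add, mul_add, hp, hq]
        | tmul p q =>
          have hf : E.f n (E.ψ x * p) = Coalgebra.counit (R := K) x * E.f n p := by
            simp only [f, LinearMap.comp_apply]
            show coeffFun n (E.t (E.ψ x * p)) = _ * coeffFun n (E.t p)
            rw [map_mul, t_psi, ← Algebra.smul_def, map_smul, smul_eq_mul]
          simp only [TensorProduct.map_tmul, Algebra.TensorProduct.tmul_mul_tmul, LinearMap.rTensor_tmul,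
            TensorProduct.lid_tmul]
          show E.f n (E.ψ x * p) • (E.ψ y * q) = E.ψ (Coalgebra.counit (R := K) x • y) * (E.f n p • q)
          rw [hf, map_smul, smul_mul_smul_comm]
    rw [e, Coalgebra.rTensor_counit_comul, TensorProduct.lid_tmul, one_smul]
    rfl
  have hQQ : ∀ n n', ∀ b : A, E.Q n (E.Q n' b) = if n' = n then E.Q n b else 0 := by
    intro n n' b
    refine (Module.forall_dual_apply_eq_zero_iff K _).mp (fun φ => ?_) |> sub_eq_zero.mp
    rw [map_sub]
    show φ (coeffMap (E.f n) (coeffMap (E.f n') b)) - _ = 0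
    rw [TakeuchiLib.apply_coeffMap, ← ComodLib.comodHom_actF (TakeuchiLib.isComodHom_coeffMap (E.f n')) φ b,
      show E.f n (coeffMap (E.f n') (actF φ b)) = E.f n' (actF (E.f n) (actF φ b)) from TakeuchiLib.apply_coeffMap _ _ _,
      show E.f n' (actF (E.f n) (actF φ b)) = LieHopf.conv (E.f n') (E.f n) (actF φ b) from ?_, conv_f]
    · split
      · next h => subst h; simp only [Q]; rw [TakeuchiLib.apply_coeffMap]; exact sub_self _
      · simp
    · simp only [LieHopf.conv, LinearMap.comp_apply, ComodLib.actF_apply]
      show _ = LinearMap.mul' K K (TensorProduct.map (E.f n') (E.f n) (Coalgebra.comul (R := K) (actF φ b)))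
      show E.f n' (slice (E.f n) (Coalgebra.comul (R := K) (actF φ b))) = _
      induction Coalgebra.comul (R := K) (actF φ b) using TensorProduct.induction_on with
      | zero => simp
      | tmul x y => simp [mul_comm]
      | add x y hx hy => simp only [map_add, hx, hy]
  have he : ∀ n, ∀ u ∈ E.W m⁻¹ * E.W m, ∃ e ∈ E.W 1, ∀ b ∈ E.W m, e * b = E.Q n (b * u) := by
    intro n u hu
    refine Submodule.mul_induction_on hu (fun x hx y hy => ?_) fun x y hx hy => ?_
    ·
      refine ⟨x * E.Q n y, ?_, fun b hb => ?_⟩
      · have := E.mul_mem_W hx (hstab n y hy)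
        rwa [inv_mul_cancel] at this
      · have hbx : b * x ∈ E.W 1 := by
          have := E.mul_mem_W hb hx
          rwa [mul_inv_cancel] at this
        rw [← mul_assoc b x y, hlin n _ hbx]
        ring
    ·
      obtain ⟨e, he, he'⟩ := hx
      obtain ⟨d, hd, hd'⟩ := hy
      exact ⟨e + d, add_mem he hd, fun b hb => by rw [add_mul, he' b hb, hd' b hb, mul_add, map_add]⟩
  choose e he1 he2 using fun n => he n 1 (E.one_mem_mul m)
  have hidem : ∀ n, e n = 0 ∨ e n = 1 := by
    intro n
    obtain ⟨c, hc⟩ := E.mem_range_of_mem_W (he1 n)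
    have h0 : e n * e n - e n = 0 := E.eq_zero_of_mul m _ fun b hb => by
      rw [sub_mul, mul_assoc, he2 n b hb, mul_one, he2 n _ (hstab n b hb), mul_one, hQQ, if_pos rfl, sub_self]
    rw [← hc, ← map_mul, ← map_sub] at h0
    rcases hconn c (sub_eq_zero.mp (E.inj (h0.trans (map_zero E.ψ).symm))) with h | h
    · exact Or.inl (by rw [← hc, h, map_zero])
    · exact Or.inr (by rw [← hc, h, map_one])
  have hone : ∀ b ∈ E.W m, E.Q m b = b := by
    obtain ⟨b, hb⟩ := E.surj (MonoidAlgebra.single m 1)
    have hne : E.Q m (E.P m b) ≠ 0 := fun h => by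
      have h2 := congrArg (Coalgebra.counit (R := K)) h
      simp only [Q, TakeuchiLib.counit_coeffMap, map_zero] at h2
      have h3 : E.f m (E.P m b) = LieHopf.conv (E.f m) (E.f m) b := by
        simp only [LieHopf.conv, LinearMap.comp_apply]
        show E.f m (slice (E.f m) (Coalgebra.comul (R := K) b)) = LinearMap.mul' K K (TensorProduct.map (E.f m) (E.f m) (Coalgebra.comul (R := K) b))
        induction Coalgebra.comul (R := K) b using TensorProduct.induction_on with
        | zero => simp
        | tmul x y => simp [mul_comm]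
        | add x y hx hy => simp only [map_add, hx, hy]
      rw [h3, conv_f, if_pos rfl] at h2
      simp [f, hb, coeffFun_single] at h2
    rcases hidem m with h | h
    · refine absurd ?_ hne
      rw [← mul_one (E.P m b), ← he2 m _ (E.P_mem m b), h, zero_mul]
    · intro c hc
      rw [← mul_one c, ← he2 m c hc, h, mul_one, one_mul]
  split
  · next h => subst h; exact hone a ha
  · next h =>
    conv_lhs => rw [← hone a ha, hQQ, if_neg h]

end Ext

end Groth.Agent.ExtMultLib
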