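import Groth.Agent.ExtMultLib.Grading
import Groth.Agent.ComodLib.Trig
import Groth.Agent.S7975
import Mathlib.LinearAlgebra.Eigenspace.Triangularizable
import Mathlib.LinearAlgebra.Eigenspace.Minpoly

/-!
# Simple subrepresentations of a weight space are lines
-/

universe u

set_option autoImplicit false
set_option backward.isDefEq.respectTransparency false
set_option backward.isDefEq.respectTransparency.types false

open TensorProduct WithConv

namespace Groth.Agent.ExtMultLib

open ComodLib (actF slice)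
open TakeuchiLib (coeffMap)

variable {K : Type u} [Field K] [IsAlgClosed K]

/-- On a reduced algebra of finite type an element vanishing at all points is zero. -/
theorem eq_zero_of_points {R : Type u} [CommRing R] [Algebra K R] [Algebra.FiniteType K R] [_root_.IsReduced R] (a : R)
    (h : ∀ g : R →ₐ[K] K, g a = 0) : a = 0 := by
  haveI : IsJacobsonRing R := isJacobsonRing_of_finiteType (A := K)
  have hmem : a ∈ Ideal.jacobson (⊥ : Ideal R) := by
    simp only [Ideal.jacobson, Ideal.mem_sInf]
    rintro M ⟨-, hM⟩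
    haveI := hM
    letI := Ideal.Quotient.field M
    haveI : Algebra.FiniteType K (R ⧸ M) := .of_surjective (Ideal.Quotient.mkₐ K M) Ideal.Quotient.mk_surjective
    haveI : Module.Finite K (R ⧸ M) := finite_of_finite_type_of_isJacobsonRing K (R ⧸ M)
    let e : K ≃ₐ[K] (R ⧸ M) := AlgEquiv.ofBijective (Algebra.ofId K _)
      (IsAlgClosed.algebraMap_bijective_of_isIntegral (k := K) (K := R ⧸ M))
    refine Ideal.Quotient.eq_zero_iff_mem.mp (e.symm.injective ?_)
    rw [map_zero]
    exact h ((e.symm : (R ⧸ M) →ₐ[K] K).comp (Ideal.Quotient.mkₐ K M))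
  rw [isJacobsonRing_iff.mp inferInstance ⊥ (fun x ⟨n, hn⟩ => (IsNilpotent.eq_zero ⟨n, hn⟩ : x = 0))] at hmem
  exact hmem

/-- An algebra map with injective comorphism of Hopf algebras is surjective on points. -/
theorem exists_point_over {A C : Type u} [CommRing A] [HopfAlgebra K A] [CommRing C] [HopfAlgebra K C]
    [Algebra.FiniteType K A] [Algebra.FiniteType K C] (ψ : C →ₐc[K] A) (hψ : Function.Injective ψ) (u : C →ₐ[K] K) :
    ∃ g : A →ₐ[K] K, ∀ c, g (ψ c) = u c := by
  letI : Algebra C A := (ψ : C →ₐ[K] A).toRingHom.toAlgebra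
  haveI : Module.FaithfullyFlat C A := GrpSchLib.HopfFlat.faithfullyFlat ψ hψ
  haveI hmax : (RingHom.ker u).IsMaximal :=
    RingHom.ker_isMaximal_of_surjective u fun r => ⟨algebraMap K C r, by simp⟩
  have hne : Ideal.map (algebraMap C A) (RingHom.ker u) ≠ ⊤ := fun h => by
    refine Module.FaithfullyFlat.submodule_ne_top (R := C) (M := A) hmax ?_
    rw [Ideal.smul_top_eq_map, h, Submodule.restrictScalars_top]
  obtain ⟨M, hM, hle⟩ := Ideal.exists_le_maximal _ hne
  letI := Ideal.Quotient.field M
  haveI : Algebra.FiniteType K (A ⧸ M) := .of_surjective (Ideal.Quotient.mkₐ K M) Ideal.Quotient.mk_surjective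
  haveI : Module.Finite K (A ⧸ M) := finite_of_finite_type_of_isJacobsonRing K (A ⧸ M)
  let e : K ≃ₐ[K] (A ⧸ M) := AlgEquiv.ofBijective (Algebra.ofId K _)
    (IsAlgClosed.algebraMap_bijective_of_isIntegral (k := K) (K := A ⧸ M))
  refine ⟨(e.symm : (A ⧸ M) →ₐ[K] K).comp (Ideal.Quotient.mkₐ K M), fun c => ?_⟩
  show e.symm (Ideal.Quotient.mk M (ψ c)) = u c
  have h1 : Ideal.Quotient.mk M (ψ (c - algebraMap K C (u c))) = 0 :=
    Ideal.Quotient.eq_zero_iff_mem.mpr (hle (Ideal.mem_map_of_mem (algebraMap C A) (RingHom.mem_ker.mpr (by simp))))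
  rw [map_sub, AlgHomClass.commutes, map_sub, sub_eq_zero] at h1
  rw [h1, Ideal.Quotient.mk_algebraMap, AlgEquiv.commutes]
  rfl

namespace Ext

variable {A C M : Type u} [CommRing A] [HopfAlgebra K A] [CommRing C] [HopfAlgebra K C] [CommGroup M]
  [Algebra.FiniteType K A] [Algebra.FiniteType K C] (E : Ext K A C M)
  (hconn : ∀ e : C, IsIdempotentElem e → e = 0 ∨ e = 1)

omit [IsAlgClosed K] in
include hconn in
theorem Q_eq_P (m : M) : E.Q m = E.P m := by
  classical
  refine LinearMap.ext fun a => ?_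
  obtain ⟨s, hs, hns⟩ := E.exists_decomp a
  conv_lhs => rw [hs]
  rw [map_sum]
  simp only [fun n => E.Q_of_mem hconn (E.P_mem n a) m]
  rw [Finset.sum_ite_eq']
  split
  · rfl
  · next h => exact (hns m h).symm

omit [IsAlgClosed K] in
include hconn in
theorem isSubcomod_W (m : M) : HopfRep.IsSubcomod (k := K) (A := A) (E.W m) := by
  classical
  refine ComodLib.isSubcomod_iff_actF.mpr fun φ a ha => ?_
  rw [show a = E.Q m a by rw [E.Q_eq_P hconn, E.P_of_mem ha, if_pos rfl], ← Q_comm, E.Q_eq_P hconn]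
  exact E.P_mem m _

omit [IsAlgClosed K] in
include hconn in
theorem coeff_mem_W (m : M) (φ : A →ₗ[K] K) {a : A} (ha : a ∈ E.W m) : coeffMap φ a ∈ E.W m := by
  classical
  have h := ComodLib.comodHom_actF (TakeuchiLib.isComodHom_coeffMap (A := A) (V := A) φ) (E.f m) a
  rw [show actF (E.f m) a = a from (E.P_of_mem ha m).trans (if_pos rfl)] at h
  rw [h]
  exact E.P_mem m _

omit [IsAlgClosed K] [Algebra.FiniteType K A] [Algebra.FiniteType K C] in
theorem antipode_mem [DecidableEq M] (hQP : ∀ m, E.Q m = E.P m) {m : M} {a : A} (ha : a ∈ E.W m) :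
    HopfAlgebra.antipode K a ∈ E.W m⁻¹ := by
  have hz : ∀ n, E.P n (HopfAlgebra.antipode K a) = HopfAlgebra.antipode K (E.Q n⁻¹ a) := by
    intro n
    show slice (E.f n) (Coalgebra.comul (R := K) (HopfAlgebra.antipode K a)) =
      HopfAlgebra.antipode K (TensorProduct.lid K A ((E.f n⁻¹).rTensor A (Coalgebra.comul (R := K) a)))
    rw [ComodLib.comul_antipode]
    induction Coalgebra.comul (R := K) a using TensorProduct.induction_on with
    | zero => simp
    | add x y hx hy => simp only [map_add, hx, hy]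
    | tmul x y =>
      have hf : E.f n (HopfAlgebra.antipode K x) = E.f n⁻¹ x := by
        show coeffFun n (E.t (HopfAlgebra.antipode K x)) = coeffFun n⁻¹ (E.t x)
        rw [← GrpSchLib.HopfGalois.antipode_bialgHom]
        induction E.t x using MonoidAlgebra.induction_linear with
        | zero => simp
        | add p q hp hq => simp only [map_add, hp, hq]
        | single g c => simp [coeffFun_single, inv_eq_iff_eq_inv]
      simp [hf]
  obtain ⟨s, hs, -⟩ := E.exists_decomp (HopfAlgebra.antipode K a)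
  rw [hs]
  refine Submodule.sum_mem _ fun n _ => ?_
  by_cases h : n = m⁻¹
  · rw [h]; exact E.P_mem _ _
  · rw [hz, hQP, E.P_of_mem ha, if_neg (fun e => h (by rw [e, inv_inv])), map_zero]
    exact zero_mem _

/-- The action of a point as an algebra map. -/
noncomputable def trans (g : A →ₐ[K] K) : A →ₐ[K] A :=
  ((Algebra.TensorProduct.rid K K A).toAlgHom.comp (Algebra.TensorProduct.map (AlgHom.id K A) g)).comp
    (Bialgebra.comulAlgHom K A)

omit [IsAlgClosed K] [Algebra.FiniteType K A] [CommRing C] [HopfAlgebra K C] [Algebra.FiniteType K C] [CommGroup M] in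
theorem trans_eq (g : A →ₐ[K] K) : (trans g).toLinearMap = actF g.toLinearMap := by
  refine LinearMap.ext fun a => ?_
  show Algebra.TensorProduct.rid K K A (Algebra.TensorProduct.map (AlgHom.id K A) g (Coalgebra.comul (R := K) a)) =
    slice g.toLinearMap (Coalgebra.comul (R := K) a)
  induction Coalgebra.comul (R := K) a using TensorProduct.induction_on with
  | zero => simp
  | tmul x y => simp
  | add x y hx hy => simp only [map_add, hx, hy]

variable [_root_.IsReduced C]

include hconn in
theorem eq_zero_of_points' {m : M} {a : A} (ha : a ∈ E.W m) (h : ∀ g : A →ₐ[K] K, g a = 0) : a = 0 := by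
  refine E.eq_zero_of_mul m⁻¹ a fun x hx => ?_
  have hax : a * x ∈ E.W 1 := by
    have := E.mul_mem_W ha hx
    rwa [mul_inv_cancel] at this
  obtain ⟨c, hc⟩ := E.mem_range_of_mem_W hax
  have hc0 : c = 0 := eq_zero_of_points (K := K) c fun u => by
    obtain ⟨g, hg⟩ := exists_point_over E.ψ E.inj u
    rw [← hg, hc, map_mul, h, zero_mul]
  rw [← hc, hc0, map_zero]

variable (hU : HopfRep.IsUnipotent K C)

include hconn hU in
/-- A point has a single eigenvalue on a weight space. -/
theorem eigen_eq {m : M} (g : A →ₐ[K] K) {v w : A} (hv : v ∈ E.W m) (hw : w ∈ E.W m) (hv0 : v ≠ 0) (hw0 : w ≠ 0)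
    {l l' : K} (hl : trans g v = l • v) (hl' : trans g w = l' • w) : l = l' := by
  classical
  haveI : IsDomain C := ComodLib.isDomain_of_connected (k := K) hconn
  let τ := trans g
  have hτψ : ∀ c : C, τ (E.ψ c) = E.ψ (actF ((g.comp (E.ψ : C →ₐ[K] A)).toLinearMap) c) := by
    intro c
    rw [← AlgHom.toLinearMap_apply, trans_eq]
    show slice g.toLinearMap (Coalgebra.comul (R := K) (E.ψ c)) = E.ψ (slice _ (Coalgebra.comul (R := K) c))
    rw [← CoalgHomClass.map_comp_comul_apply E.ψ c]
    induction Coalgebra.comul (R := K) c using TensorProduct.induction_on with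
    | zero => simp
    | tmul x y => simp
    | add x y hx hy => simp only [map_add, hx, hy]
  obtain ⟨x₀, hx₀, hvx₀⟩ : ∃ x ∈ E.W m⁻¹, v * x ≠ 0 := by
    by_contra h
    push Not at h
    exact hv0 (E.eq_zero_of_mul m⁻¹ v h)
  obtain ⟨U₀, hU₀f, hx₀U, hU₀⟩ := ComodLib.exists_finite_subcomod_le (k := K) (C := A) (V := A) (Set.finite_singleton x₀)
  let U : Submodule K A := U₀ ⊓ E.W m⁻¹
  have hUs : HopfRep.IsSubcomod (k := K) (A := A) U := ComodLib.isSubcomod_inf hU₀ (E.isSubcomod_W hconn _)
  haveI : Module.Finite K U := Submodule.finiteDimensional_of_le inf_le_left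
  have hτU : ∀ x ∈ U, τ.toLinearMap x ∈ U := fun x hx => by
    rw [trans_eq]; exact ComodLib.subcomod_actF_mem hUs _ hx
  let τU : Module.End K U := τ.toLinearMap.restrict hτU
  obtain ⟨ν, b, hb, hvb⟩ : ∃ (ν : K) (b : U), b ∈ Module.End.maxGenEigenspace τU ν ∧ v * (b : A) ≠ 0 := by
    by_contra h
    push Not at h
    refine hvx₀ ?_
    have htop : (⊤ : Submodule K U) ≤ LinearMap.ker (LinearMap.mulLeft K v ∘ₗ U.subtype) := by
      rw [← Module.End.iSup_maxGenEigenspace_eq_top τU]
      exact iSup_le fun ν b hb => h ν b hb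
    exact htop (Submodule.mem_top : (⟨x₀, hx₀U rfl, hx₀⟩ : U) ∈ _)
  have key : ∀ (v : A) (l : K), v ∈ E.W m → trans g v = l • v → v * (b : A) ≠ 0 → l * ν = 1 := by
    intro v l hv hl hvb
    by_contra hne
    refine hvb ?_
    obtain ⟨c, hc⟩ := E.mem_range_of_mem_W (show v * (b : A) ∈ E.W 1 by
      have := E.mul_mem_W hv b.2.2
      rwa [mul_inv_cancel] at this)
    obtain ⟨T₀, hT₀f, hcT, hT₀⟩ := ComodLib.exists_finite_subcomod_le (k := K) (C := C) (V := C) (Set.finite_singleton c)
    let cT : HopfRep.Comod K C T₀ := ComodSub.Comod.restr (HopfRep.Comod.regular K C) T₀ hT₀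
    letI := cT
    haveI := hT₀f
    obtain ⟨N, hN⟩ := ComodLib.isNilpotent_act_sub_one hU (g.comp (E.ψ : C →ₐ[K] A)) T₀
    have hpow : ∀ (n : ℕ) (d : T₀), ((τ.toLinearMap - 1) ^ n) (E.ψ (d : C)) =
        E.ψ ((((HopfRep.Comod.act K C T₀ (g.comp (E.ψ : C →ₐ[K] A)) - 1) ^ n) d : T₀) : C) := by
      intro n
      induction n with
      | zero => intro d; simp
      | succ n ih =>
        intro d
        rw [pow_succ, pow_succ, Module.End.mul_apply, Module.End.mul_apply, ← ih]
        refine congrArg _ ?_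
        rw [LinearMap.sub_apply, LinearMap.sub_apply, AlgHom.toLinearMap_apply, hτψ, Submodule.coe_sub, map_sub]
        refine congrArg (· - _) (congrArg E.ψ ?_)
        show actF _ (d : C) = (((actF (g.comp (E.ψ : C →ₐ[K] A)).toLinearMap) d : T₀) : C)
        exact (ComodLib.comodHom_actF (ComodSub.isComodHom_subtype (HopfRep.Comod.regular K C) _ hT₀) _ d).symm
    have h1 : E.ψ c ∈ Module.End.maxGenEigenspace τ.toLinearMap 1 := by
      rw [Module.End.mem_maxGenEigenspace]
      exact ⟨N, by rw [one_smul, show c = ((⟨c, hcT rfl⟩ : T₀) : C) from rfl, hpow, hN]; simp⟩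
    have h2 : v * (b : A) ∈ Module.End.maxGenEigenspace τ.toLinearMap (l * ν) := by
      rw [Module.End.mem_maxGenEigenspace] at hb ⊢
      obtain ⟨L, hL⟩ := hb
      refine ⟨L, ?_⟩
      have hmul : ∀ (n : ℕ) (y : U), ((τ.toLinearMap - (l * ν) • 1) ^ n) (v * (y : A)) =
          l ^ n • (v * ((((τU - ν • 1) ^ n) y : U) : A)) := by
        intro n
        induction n with
        | zero => intro y; simp
        | succ n ih =>
          intro y
          rw [pow_succ, Module.End.mul_apply, pow_succ (τU - ν • 1), Module.End.mul_apply]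
          have e : (τ.toLinearMap - (l * ν) • 1) (v * (y : A)) = l • (v * (((τU - ν • 1) y : U) : A)) := by
            show τ (v * (y : A)) - (l * ν) • (v * (y : A)) = l • (v * (τ (y : A) - ν • (y : A)))
            rw [map_mul, show τ v = l • v from hl]
            simp only [Algebra.smul_def, map_mul]
            ring
          rw [e, map_smul, ih, smul_smul, pow_succ']
      rw [hmul, hL]
      simp
    rw [hc] at h1
    exact Submodule.disjoint_def.mp (Module.End.disjoint_genEigenspace τ.toLinearMap (Ne.symm hne) _ _) _ h1 h2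
  have h1 := key v l hv hl hvb
  have hwb : w * (b : A) ≠ 0 := by
    intro h
    refine hw0 (E.eq_zero_of_mul m⁻¹ w fun x hx => ?_)
    obtain ⟨c, hc⟩ := E.mem_range_of_mem_W (show w * x ∈ E.W 1 by
      have := E.mul_mem_W hw hx
      rwa [mul_inv_cancel] at this)
    obtain ⟨d, hd⟩ := E.mem_range_of_mem_W (show v * (b : A) ∈ E.W 1 by
      have := E.mul_mem_W hv b.2.2
      rwa [mul_inv_cancel] at this)
    have h0 : c * d = 0 := E.inj (by
      rw [map_mul, hc, hd, map_zero, show w * x * (v * (b : A)) = w * (b : A) * (v * x) by ring, h, zero_mul])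
    rcases mul_eq_zero.mp h0 with h' | h'
    · rw [← hc, h', map_zero]
    · exact absurd (by rw [← hd, h', map_zero]) hvb
  have h2 := key w l' hw hl' hwb
  have hν : ν ≠ 0 := fun h => by rw [h, mul_zero] at h1; exact zero_ne_one h1
  exact mul_right_cancel₀ hν (h1.trans h2.symm)

include hconn hU in
/-- A simple subrepresentation of a weight space is a line. -/
theorem finrank_simple {m : M} (V : Submodule K A) [Module.Finite K V] (hV : HopfRep.IsSubcomod (k := K) (A := A) V)
    (hVW : V ≤ E.W m) (hV0 : V ≠ ⊥)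
    (hmin : ∀ S, HopfRep.IsSubcomod (k := K) (A := A) S → S ≤ V → S = ⊥ ∨ S = V) :
    Module.finrank K V = 1 := by
  classical
  letI : AddCommGroup V := Submodule.addCommGroup V
  haveI : Nontrivial V := Submodule.nontrivial_iff_ne_bot.mpr hV0
  haveI : IsDomain C := ComodLib.isDomain_of_connected (k := K) hconn
  let cV : HopfRep.Comod K A V := ComodSub.Comod.restr (HopfRep.Comod.regular K A) V hV
  letI := cV
  let σ : (A →ₐ[K] K) → Module.End K V := fun g => actF g.toLinearMap
  have hσ : ∀ g (x : V), ((σ g x : V) : A) = trans g (x : A) := fun g x => by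
    rw [← AlgHom.toLinearMap_apply (trans g), trans_eq]
    exact ComodLib.comodHom_actF (ComodSub.isComodHom_subtype (HopfRep.Comod.regular K A) _ hV) _ x
  have hσmul : ∀ g h : WithConv (A →ₐ[K] K), σ (g * h).ofConv = σ g.ofConv * σ h.ofConv := fun g h =>
    LinearMap.ext fun v => by
      refine Eq.trans ?_ (ComodLib.actF_convMul (toConv g.ofConv.toLinearMap) (toConv h.ofConv.toLinearMap) v)
      refine congrArg (fun φ => actF φ v) (LinearMap.ext fun a => ?_)
      show (g * h) a = _
      rw [GrpSchLib.HopfQuot.convMul_apply, LinearMap.convMul_apply]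
      induction CoalgebraStruct.comul (R := K) a using TensorProduct.induction_on with
      | zero => simp
      | tmul x y => simp
      | add x y hx hy => simp only [map_add, hx, hy]
  have hσone : σ (1 : WithConv (A →ₐ[K] K)).ofConv = 1 := LinearMap.ext fun v => by
    refine Eq.trans ?_ (ComodLib.actF_counit (k := K) (C := A) v)
    refine congrArg (fun φ => actF φ v) (LinearMap.ext fun a => ?_)
    simp
  -- one eigenvalue
  have hscal : ∀ g, ∃ l : K, IsNilpotent (σ g - l • 1) := by
    intro g
    obtain ⟨l, hl⟩ := Module.End.exists_eigenvalue (σ g)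
    refine ⟨l, ?_⟩
    have hall : ∀ l', l' ≠ l → Module.End.maxGenEigenspace (σ g) l' = ⊥ := by
      intro l' hne
      by_contra hb
      obtain ⟨x, hx⟩ := hl.exists_hasEigenvector
      have hl' : (σ g).HasEigenvalue l' := by
        rw [Module.End.maxGenEigenspace_eq_genEigenspace_finrank] at hb
        exact Module.End.HasUnifEigenvalue.lt (m := 1) one_pos hb
      obtain ⟨y, hy⟩ := hl'.exists_hasEigenvector
      refine hne ((E.eigen_eq hconn hU g (hVW x.2) (hVW y.2) (fun h => hx.2 (Subtype.ext h)) (fun h => hy.2 (Subtype.ext h))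
        ?_ ?_).symm)
      · rw [← hσ, hx.apply_eq_smul]; rfl
      · rw [← hσ, hy.apply_eq_smul]; rfl
    have htop : Module.End.maxGenEigenspace (σ g) l = ⊤ := by
      rw [eq_top_iff, ← Module.End.iSup_maxGenEigenspace_eq_top (σ g)]
      refine iSup_le fun l' => ?_
      by_cases h : l' = l
      · rw [h]
      · rw [hall l' h]; exact bot_le
    refine ⟨Module.finrank K V, LinearMap.ext fun x => ?_⟩
    rw [Module.End.maxGenEigenspace_eq_genEigenspace_finrank, Module.End.genEigenspace_nat] at htop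
    exact LinearMap.mem_ker.mp (htop.ge (Submodule.mem_top (x := x)))
  by_contra hn1
  let Γ := WithConv (A →ₐ[K] K)
  let conj : Γ →* Module.End K (Module.End K V) :=
    { toFun := fun g => LinearMap.mulLeft K (σ g.ofConv) * LinearMap.mulRight K (σ g⁻¹.ofConv)
      map_one' := by rw [inv_one, hσone]; exact LinearMap.ext fun X => by simp
      map_mul' := fun g h => LinearMap.ext fun X => by
        simp only [Module.End.mul_apply, LinearMap.mulLeft_apply, LinearMap.mulRight_apply]
        rw [hσmul, mul_inv_rev, hσmul]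
        simp only [mul_assoc] }
  let S₁ : Submodule K (Module.End K V) := Submodule.span K {1}
  have hS₁ : ∀ g, ∀ X ∈ S₁, conj g X ∈ S₁ := by
    intro g X hX
    obtain ⟨c, rfl⟩ := Submodule.mem_span_singleton.mp hX
    rw [map_smul]
    refine Submodule.smul_mem _ _ (Submodule.mem_span_singleton.mpr ⟨1, ?_⟩)
    show (1 : K) • (1 : Module.End K V) = σ g.ofConv * (1 * σ g⁻¹.ofConv)
    rw [one_smul, one_mul, ← hσmul, mul_inv_cancel, hσone]
  let ρ : Γ →* Module.End K (Module.End K V ⧸ S₁) :=
    { toFun := fun g => Submodule.mapQ S₁ S₁ (conj g) (hS₁ g)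
      map_one' := by
        refine Submodule.linearMap_qext _ (LinearMap.ext fun X => ?_)
        simp
      map_mul' := fun g h => by
        refine Submodule.linearMap_qext _ (LinearMap.ext fun X => ?_)
        simp }
  have hρ : ∀ g, IsNilpotent (ρ g - 1) := by
    intro g
    obtain ⟨l, hl⟩ := hscal g.ofConv
    obtain ⟨l', hl'⟩ := hscal g⁻¹.ofConv
    have hll : l * l' = 1 := by
      have h1 : IsNilpotent ((σ g.ofConv - l • 1) * σ g⁻¹.ofConv + l • (σ g⁻¹.ofConv - l' • 1)) := by
        have hcomm : Commute (σ g.ofConv) (σ g⁻¹.ofConv) := by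
          show _ = _
          rw [← hσmul, ← hσmul, mul_inv_cancel, inv_mul_cancel]
        have c1 : Commute (σ g.ofConv - l • 1) (σ g⁻¹.ofConv) := hcomm.sub_left ((Commute.one_left _).smul_left l)
        have c2 : Commute (σ g.ofConv - l • 1) (σ g⁻¹.ofConv - l' • 1) :=
          c1.sub_right ((Commute.one_right _).smul_right l')
        refine Commute.isNilpotent_add ?_ (c1.isNilpotent_mul_right hl) (hl'.smul l)
        exact (c2.mul_left ((Commute.refl _).sub_right ((Commute.one_right _).smul_right l'))).smul_right l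
      rw [show (σ g.ofConv - l • 1) * σ g⁻¹.ofConv + l • (σ g⁻¹.ofConv - l' • 1) = (1 - l * l') • (1 : Module.End K V) by
        rw [sub_mul, ← hσmul, mul_inv_cancel, hσone, smul_sub, smul_one_mul, smul_smul]; exact (sub_add_sub_cancel _ _ _).trans (LinearMap.ext fun x => by simp [sub_smul])] at h1
      obtain ⟨n, hn⟩ := h1
      rw [smul_pow, one_pow, smul_eq_zero] at hn
      rcases hn with h | h
      · exact (sub_eq_zero.mp (eq_zero_of_pow_eq_zero h)).symm
      · exact absurd h one_ne_zero
    let Lg := LinearMap.mulLeft K (σ g.ofConv - l • 1)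
    let Rg := LinearMap.mulRight K (σ g⁻¹.ofConv)
    let Rg' := LinearMap.mulRight K (σ g⁻¹.ofConv - l' • 1)
    have e : conj g - 1 = Lg * Rg + l • Rg' := LinearMap.ext fun X => by
      show σ g.ofConv * (X * σ g⁻¹.ofConv) - X = (σ g.ofConv - l • 1) * (X * σ g⁻¹.ofConv) + l • (X * (σ g⁻¹.ofConv - l' • 1))
      rw [sub_mul, smul_one_mul, mul_sub, smul_sub, mul_smul_comm, mul_one, smul_smul, hll, one_smul]
      abel
    obtain ⟨a, ha⟩ := hl
    obtain ⟨a', ha'⟩ := hl'
    have hnil : IsNilpotent (conj g - 1) := by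
      rw [e]
      have c1 : Commute Lg Rg := LinearMap.commute_mulLeft_right _ _
      have c2 : Commute Lg Rg' := LinearMap.commute_mulLeft_right _ _
      have c3 : Commute Rg Rg' := LinearMap.ext fun X => by
        simp only [Rg, Rg', Module.End.mul_apply, LinearMap.mulRight_apply, mul_assoc]
        rw [(show Commute (σ g⁻¹.ofConv) (σ g⁻¹.ofConv - l' • 1) from
          (Commute.refl _).sub_right ((Commute.one_right _).smul_right l')).eq]
      refine Commute.isNilpotent_add ((c2.mul_left c3).smul_right l) (c1.isNilpotent_mul_right ⟨a, ?_⟩)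
        (IsNilpotent.smul ⟨a', ?_⟩ l)
      · rw [LinearMap.pow_mulLeft, ha, LinearMap.mulLeft_zero_eq_zero]
      · rw [LinearMap.pow_mulRight, ha', LinearMap.mulRight_zero_eq_zero]
    obtain ⟨n, hn⟩ := hnil
    refine ⟨n, Submodule.linearMap_qext _ (LinearMap.ext fun X => ?_)⟩
    have : ∀ j : ℕ, ((ρ g - 1 : Module.End K (Module.End K V ⧸ S₁)) ^ j) (S₁.mkQ X) = S₁.mkQ (((conj g - 1 : Module.End K (Module.End K V)) ^ j) X) := by
      intro j
      induction j with
      | zero => simp
      | succ j ih =>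
        rw [pow_succ', pow_succ', Module.End.mul_apply, Module.End.mul_apply, ih]
        simp [ρ]
    rw [LinearMap.comp_apply, this, hn]
    simp
  haveI : Nontrivial (Module.End K V ⧸ S₁) := by
    rw [Submodule.Quotient.nontrivial_iff]
    intro h
    have h1 : Module.finrank K (Module.End K V) ≤ 1 := by
      rw [← finrank_top, ← h]
      exact (finrank_span_le_card _).trans (by simp)
    rw [Module.finrank_linearMap, ← pow_two] at h1
    have hpos : 0 < Module.finrank K V := Module.finrank_pos
    have : 2 ≤ Module.finrank K V := by omega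
    nlinarith
  obtain ⟨q, hq0, hq⟩ := S7975.exists_fixed_of_isAlgClosed K (Module.End K V ⧸ S₁) ρ hρ
  obtain ⟨f, rfl⟩ := S₁.mkQ_surjective q
  have hf : f ∉ S₁ := fun h => hq0 ((Submodule.Quotient.mk_eq_zero _).mpr h)
  have hrel : ∀ g : Γ, ∃ c : K, σ g.ofConv * f - f * σ g.ofConv = c • σ g.ofConv := by
    intro g
    have h := hq g
    rw [show ρ g (S₁.mkQ f) = S₁.mkQ (conj g f) from rfl, Submodule.mkQ_apply, Submodule.mkQ_apply,
      Submodule.Quotient.eq, Submodule.mem_span_singleton] at h
    obtain ⟨c, hc⟩ := h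
    refine ⟨c, ?_⟩
    have h2 := congrArg (· * σ g.ofConv) hc
    simp only [smul_one_mul, sub_mul] at h2
    rw [h2]
    show _ = σ g.ofConv * (f * σ g⁻¹.ofConv) * σ g.ofConv - _
    rw [mul_assoc, mul_assoc f, ← hσmul, inv_mul_cancel, hσone, mul_one]
  let b := Module.finBasis K V
  haveI : NeZero (Module.finrank K V) := ⟨Module.finrank_pos.ne'⟩
  let i₀ : Fin (Module.finrank K V) := 0
  let ct : A := ∑ i, HopfAlgebra.antipode K (coeffMap (A := A) (b.coord i₀) (b i)) *
    (coeffMap (A := A) (b.coord i) (f (b i₀)) - coeffMap (A := A) (b.coord i ∘ₗ f) (b i₀))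
  have happ : ∀ (g : A →ₐ[K] K) (F : V →ₗ[K] K) (x : V), g (coeffMap (A := A) F x) = F (σ g x) := fun g F x =>
    TakeuchiLib.apply_coeffMap F g.toLinearMap x
  have hinv : ∀ (g : Γ) (a : A), g.ofConv (HopfAlgebra.antipode K a) = g⁻¹.ofConv a := fun g a => rfl
  have hct : ∀ (g : Γ) (c : K), σ g.ofConv * f - f * σ g.ofConv = c • σ g.ofConv → g.ofConv ct = c := by
    intro g c hc
    have e1 : ∀ i, g.ofConv (coeffMap (A := A) (b.coord i) (f (b i₀)) - coeffMap (A := A) (b.coord i ∘ₗ f) (b i₀)) =
        c * b.coord i (σ g.ofConv (b i₀)) := fun i => by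
      rw [map_sub, happ, happ, LinearMap.comp_apply, ← map_sub]
      show b.coord i ((σ g.ofConv * f - f * σ g.ofConv) (b i₀)) = _
      rw [hc, LinearMap.smul_apply, map_smul, smul_eq_mul]
    simp only [ct, map_sum, map_mul, hinv, happ, e1]
    have e2 : ∑ i, b.coord i₀ (σ g⁻¹.ofConv (b i)) * b.coord i (σ g.ofConv (b i₀)) = 1 := by
      have : σ g⁻¹.ofConv (σ g.ofConv (b i₀)) = b i₀ := by
        rw [← Module.End.mul_apply, ← hσmul, inv_mul_cancel, hσone]; rfl
      conv_rhs => rw [show (1 : K) = b.coord i₀ (σ g⁻¹.ofConv (σ g.ofConv (b i₀))) by rw [this]; simp]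
      conv_rhs => rw [← b.sum_repr (σ g.ofConv (b i₀)), map_sum, map_sum]
      exact Finset.sum_congr rfl fun i _ => by simp [mul_comm]
    calc ∑ i, b.coord i₀ (σ g⁻¹.ofConv (b i)) * (c * b.coord i (σ g.ofConv (b i₀)))
        = c * ∑ i, b.coord i₀ (σ g⁻¹.ofConv (b i)) * b.coord i (σ g.ofConv (b i₀)) := by
          rw [Finset.mul_sum]; exact Finset.sum_congr rfl fun i _ => by ring
      _ = c := by rw [e2, mul_one]
  have hcoef : ∀ (F : V →ₗ[K] K) (x : V), coeffMap (A := A) F x ∈ E.W m := by
    intro F x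
    obtain ⟨F', hF'⟩ := LinearMap.exists_extend F
    have : coeffMap (A := A) F x = coeffMap (A := A) F' (x : A) := by
      show TensorProduct.lid K A (F.rTensor A (cV.coact x)) = TensorProduct.lid K A (F'.rTensor A (Coalgebra.comul (R := K) (x : A)))
      rw [show Coalgebra.comul (R := K) (x : A) = V.subtype.rTensor A (cV.coact x) from
        (ComodSub.restr_coact_coe (HopfRep.Comod.regular K A) V hV x).symm, ← LinearMap.comp_apply (F'.rTensor A),
        ← LinearMap.rTensor_comp, hF']
    rw [this]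
    exact E.coeff_mem_W hconn m F' (hVW x.2)
  have hct1 : ct ∈ E.W 1 := by
    refine Submodule.sum_mem _ fun i _ => ?_
    have := E.mul_mem_W (E.antipode_mem (E.Q_eq_P hconn) (hcoef (b.coord i₀) (b i)))
      (sub_mem (hcoef (b.coord i) (f (b i₀))) (hcoef (b.coord i ∘ₗ f) (b i₀)))
    rwa [inv_mul_cancel] at this
  obtain ⟨d, hd⟩ := E.mem_range_of_mem_W hct1
  obtain ⟨l₀, hl₀⟩ := Module.End.exists_eigenvalue f
  obtain ⟨x₀, hx₀⟩ := hl₀.exists_hasEigenvector
  have hfin : (Set.range fun μ : {μ : K // f.HasEigenvalue μ} => l₀ - μ.1).Finite :=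
    haveI : Finite {μ : K // f.HasEigenvalue μ} := (Module.End.finite_hasEigenvalue f).to_subtype
    Set.finite_range _
  have hval : ∀ g : Γ, g.ofConv ct ∈ hfin.toFinset := by
    intro g
    obtain ⟨c, hc⟩ := hrel g
    rw [hct g c hc, Set.Finite.mem_toFinset]
    have hev : f.HasEigenvalue (l₀ - c) := by
      refine Module.End.hasEigenvalue_of_hasEigenvector (x := σ g.ofConv x₀) ⟨?_, fun h => hx₀.2 ?_⟩
      · rw [Module.End.mem_eigenspace_iff]
        have h := LinearMap.congr_fun hc x₀
        rw [LinearMap.sub_apply, Module.End.mul_apply, Module.End.mul_apply, hx₀.apply_eq_smul, map_smul,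
          LinearMap.smul_apply] at h
        rw [sub_smul, ← h]; abel
      · rw [← Module.End.one_apply (R := K) x₀, ← hσone, ← inv_mul_cancel g, hσmul, Module.End.mul_apply, h, map_zero]
    exact ⟨⟨l₀ - c, hev⟩, sub_sub_cancel l₀ c⟩
  have hd0 : ∏ c ∈ hfin.toFinset, (d - algebraMap K C c) = 0 := eq_zero_of_points (K := K) _ fun u => by
    obtain ⟨g, hg⟩ := exists_point_over E.ψ E.inj u
    rw [map_prod]
    refine Finset.prod_eq_zero (hval (toConv g)) ?_
    rw [map_sub, AlgHom.commutes, ← hg, hd, Algebra.algebraMap_self_apply]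
    exact sub_self _
  obtain ⟨c₀, -, hc₀⟩ := Finset.prod_eq_zero_iff.mp hd0
  have hgct : ∀ g : Γ, g.ofConv ct = c₀ := fun g => by
    rw [← hd, sub_eq_zero.mp hc₀, AlgHomClass.commutes, AlgHom.commutes, Algebra.algebraMap_self_apply]
  have hc₀0 : c₀ = 0 := (hgct 1).symm.trans (hct 1 0 (by rw [hσone, one_mul, mul_one, sub_self, zero_smul]))
  have hcomm : ∀ (g : A →ₐ[K] K) (x : V), σ g (f x) = f (σ g x) := by
    intro g x
    obtain ⟨c, hc⟩ := hrel (toConv g)
    have : c = 0 := by rw [← hct _ c hc, hgct, hc₀0]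
    rw [this, zero_smul, sub_eq_zero] at hc
    exact LinearMap.congr_fun hc x
  let W₀ : Submodule K V := Module.End.eigenspace f l₀
  have hW0 : W₀ ≠ ⊥ := hl₀
  have hWtop : W₀ ≠ ⊤ := fun h => hf (Submodule.mem_span_singleton.mpr ⟨l₀, LinearMap.ext fun x => by
    have := (h.ge (Submodule.mem_top (x := x)))
    rw [Module.End.mem_eigenspace_iff] at this
    simp [this]⟩)
  have hWstab : ∀ (g : A →ₐ[K] K), ∀ x ∈ W₀, σ g x ∈ W₀ := by
    intro g x hx
    rw [Module.End.mem_eigenspace_iff] at hx ⊢
    rw [← hcomm, hx, map_smul]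
  have hsub : HopfRep.IsSubcomod (k := K) (A := A) (W₀.map V.subtype) := by
    refine ComodLib.isSubcomod_iff_actF.mpr fun φ y hy => ?_
    obtain ⟨x, hx, rfl⟩ := hy
    refine ⟨actF φ x, ?_, ComodLib.comodHom_actF (ComodSub.isComodHom_subtype (HopfRep.Comod.regular K A) _ hV) _ x⟩
    rw [SetLike.mem_coe, ← Submodule.Quotient.mk_eq_zero W₀, ← Module.forall_dual_apply_eq_zero_iff K]
    intro F
    show (F ∘ₗ W₀.mkQ) (actF φ x) = 0
    rw [← TakeuchiLib.apply_coeffMap, E.eq_zero_of_points' hconn (hcoef _ x) fun g => ?_, map_zero]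
    rw [happ, LinearMap.comp_apply, Submodule.mkQ_apply, (Submodule.Quotient.mk_eq_zero W₀).mpr (hWstab g x hx), map_zero]
  rcases hmin _ hsub (Submodule.map_subtype_le V W₀) with h | h
  · exact hW0 (Submodule.map_injective_of_injective V.injective_subtype (h.trans (Submodule.map_bot _).symm))
  · exact hWtop (Submodule.map_injective_of_injective V.injective_subtype (h.trans (Submodule.map_subtype_top V).symm))

end Ext

end Groth.Agent.ExtMultLib
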