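import Groth.Agent.ExtMultLib.Points
import Mathlib.RingTheory.Bialgebra.MonoidAlgebra

/-!
# The retraction
-/

universe u

set_option autoImplicit false
set_option backward.isDefEq.respectTransparency false
set_option backward.isDefEq.respectTransparency.types false

open TensorProduct WithConv

namespace Groth.Agent.ExtMultLib

open ComodLib (actF slice)
open TakeuchiLib (coeffMap)

theorem groupLike_antipode {K A : Type u} [Field K] [CommRing A] [HopfAlgebra K A] {h : A} (hh : IsGroupLikeElem K h) :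
    IsGroupLikeElem K (HopfAlgebra.antipode K h) ∧ HopfAlgebra.antipode K h * h = 1 := by
  refine ⟨⟨?_, ?_⟩, ?_⟩
  · rw [HopfAlgebra.counit_antipode, hh.counit_eq_one]
  · rw [ComodLib.comul_antipode, hh.comul_eq_tmul_self]
    simp
  · have := HopfAlgebra.mul_antipode_rTensor_comul_apply (R := K) h
    rw [hh.comul_eq_tmul_self, LinearMap.rTensor_tmul, LinearMap.mul'_apply, hh.counit_eq_one, map_one] at this
    exact this

namespace Ext

variable {K : Type u} [Field K] [IsAlgClosed K] {A C M : Type u} [CommRing A] [HopfAlgebra K A] [CommRing C]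
  [HopfAlgebra K C] [CommGroup M] [Algebra.FiniteType K A] [Algebra.FiniteType K C] [_root_.IsReduced C]
  (E : Ext K A C M) (hconn : ∀ e : C, IsIdempotentElem e → e = 0 ∨ e = 1) (hU : HopfRep.IsUnipotent K C)

include hconn hU in
/-- Every character of the kernel extends to a group-like element. -/
theorem exists_groupLike (m : M) : ∃ G : A, IsGroupLikeElem K G ∧ G ∈ E.W m := by
  classical
  have hne : E.W m ≠ ⊥ := fun h => by
    have h1 := E.one_mem_mul m
    rw [h, Submodule.mul_bot, Submodule.mem_bot] at h1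
    haveI : Nontrivial A := (Bialgebra.counitAlgHom K A).toRingHom.domain_nontrivial
    exact one_ne_zero h1
  obtain ⟨V, hVW, hVf, hV, hV0, hmin⟩ := ComodLib.exists_simple_le (E.isSubcomod_W hconn m) hne
  haveI := hVf
  obtain ⟨⟨v, hv⟩, hv0, hspan⟩ := finrank_eq_one_iff'.mp (E.finrank_simple hconn hU V hV hVW hV0 hmin)
  obtain ⟨z, hz⟩ := hV v hv
  obtain ⟨G, hG⟩ : ∃ G : A, Coalgebra.comul (R := K) v = v ⊗ₜ[K] G := by
    change V.subtype.rTensor A z = Coalgebra.comul (R := K) v at hz
    rw [← hz]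
    clear hz
    induction z using TensorProduct.induction_on with
    | zero => exact ⟨0, by simp⟩
    | tmul x a =>
      obtain ⟨c, hc⟩ := hspan x
      exact ⟨c • a, by rw [← hc]; simp [TensorProduct.smul_tmul]⟩
    | add x y hx hy =>
      obtain ⟨a, ha⟩ := hx
      obtain ⟨b, hb⟩ := hy
      exact ⟨a + b, by rw [map_add, ha, hb, TensorProduct.tmul_add]⟩
  have hv' : v = Coalgebra.counit (R := K) v • G := by
    have h := congrArg (fun z => TensorProduct.lid K A ((Coalgebra.counit (R := K)).rTensor A z)) hG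
    simpa [Coalgebra.rTensor_counit_comul] using h
  have hε : Coalgebra.counit (R := K) v ≠ 0 := fun h => hv0 (Subtype.ext (by
    show v = 0
    rw [hv', h, zero_smul]))
  have hG' : G = (Coalgebra.counit (R := K) v)⁻¹ • v := by
    rw [eq_inv_smul_iff₀ hε]
    exact hv'.symm
  refine ⟨G, ⟨?_, ?_⟩, hG' ▸ Submodule.smul_mem _ _ (hVW hv)⟩
  · rw [hG', map_smul, smul_eq_mul, inv_mul_cancel₀ hε]
  · conv_lhs => rw [hG', map_smul, hG]
    rw [TensorProduct.smul_tmul', ← hG']

include hconn hU in
theorem groupLike_eq_one {c : C} (hc : IsGroupLikeElem K c) : c = 1 := by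
  have h := TakeuchiLib.unit_eq_algebraMap hconn hU hc.isUnit.unit
  rw [IsUnit.unit_spec, hc.counit_eq_one, map_one] at h
  exact h

omit [IsAlgClosed K] [Algebra.FiniteType K A] [Algebra.FiniteType K C] [_root_.IsReduced C] in
theorem t_of_mem {G : A} (hG : IsGroupLikeElem K G) {m : M} (hm : G ∈ E.W m) : E.t G = MonoidAlgebra.single m 1 := by
  have h := congrArg (fun z => TensorProduct.lid K _ ((Coalgebra.counit (R := K)).rTensor (MonoidAlgebra K M) z)) (E.mem_W.mp hm)
  simp only [LinearMap.rTensor_tmul, TensorProduct.lid_tmul, hG.counit_eq_one, one_smul] at h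
  rw [← h]
  show _ = TensorProduct.lid K _ ((Coalgebra.counit (R := K)).rTensor (MonoidAlgebra K M)
    (Algebra.TensorProduct.map (AlgHom.id K A) (E.t : A →ₐ[K] MonoidAlgebra K M) (Coalgebra.comul (R := K) G)))
  rw [hG.comul_eq_tmul_self]
  simp [hG.counit_eq_one]

include E hconn hU in
/-- The retraction, unique among the algebra maps killing group-like elements. -/
theorem exists_retraction : ∃ r : A →ₐc[K] C, (∀ c, r (E.ψ c) = c) ∧
    ∀ r' : A →ₐ[K] C, (∀ c, r' (E.ψ c) = c) → (∀ G, IsGroupLikeElem K G → r' G = 1) → ∀ a, r' a = r a := by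
  classical
  choose G hG hGW using E.exists_groupLike hconn hU
  have huniq : ∀ {H H' : A}, IsGroupLikeElem K H → IsGroupLikeElem K H' → ∀ {m : M}, H ∈ E.W m → H' ∈ E.W m → H = H' := by
    intro H H' hH hH' m hm hm'
    have hS := groupLike_antipode hH'
    have h1 : HopfAlgebra.antipode K H' ∈ E.W m⁻¹ := E.antipode_mem (E.Q_eq_P hconn) hm'
    obtain ⟨c, hc⟩ := E.mem_range_of_mem_W (show H * HopfAlgebra.antipode K H' ∈ E.W 1 by
      have := E.mul_mem_W hm h1
      rwa [mul_inv_cancel] at this)
    have hcg : IsGroupLikeElem K c := by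
      have hg : IsGroupLikeElem K (E.ψ c) := by
        rw [hc]; exact hH.mul hS.1
      refine ⟨?_, ?_⟩
      · rw [← CoalgHomClass.counit_comp_apply E.ψ, hg.counit_eq_one]
      · refine TensorProduct.map_injective_of_flat_flat (E.ψ : C →ₗ[K] A) (E.ψ : C →ₗ[K] A) E.inj E.inj ?_
        rw [CoalgHomClass.map_comp_comul_apply, hg.comul_eq_tmul_self]
        rfl
    rw [groupLike_eq_one hconn hU hcg, map_one] at hc
    calc H = H * (HopfAlgebra.antipode K H' * H') := by rw [hS.2, mul_one]
      _ = H' := by rw [← mul_assoc, ← hc, one_mul]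
  let Gh : M →* GroupLike K A :=
    { toFun := fun m => ⟨G m, hG m⟩
      map_one' := GroupLike.ext (huniq (hG 1) IsGroupLikeElem.one (hGW 1) E.one_mem_W)
      map_mul' := fun m n => GroupLike.ext (huniq (hG _) ((hG m).mul (hG n)) (hGW _) (E.mul_mem_W (hGW m) (hGW n))) }
  let s : MonoidAlgebra K M →ₐc[K] A :=
    (MonoidAlgebra.liftGroupLikeBialgHom : MonoidAlgebra K (GroupLike K A) →ₐc[K] A).comp (MonoidAlgebra.mapDomainBialgHom K Gh)
  have hs : ∀ m (c : K), s (MonoidAlgebra.single m c) = c • G m := by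
    intro m c
    show MonoidAlgebra.lift K A (GroupLike K A) _ (MonoidAlgebra.mapDomainBialgHom K Gh (MonoidAlgebra.single m c)) = _
    simp [MonoidAlgebra.lift_single, Gh]
  let Θ : C ⊗[K] MonoidAlgebra K M →ₐc[K] A := (Bialgebra.mulBialgHom K A).comp (Bialgebra.TensorProduct.map E.ψ s)
  have hΘ : ∀ c m (r : K), Θ (c ⊗ₜ[K] MonoidAlgebra.single m r) = r • (E.ψ c * G m) := by
    intro c m r
    show LinearMap.mul' K A (E.ψ c ⊗ₜ[K] s (MonoidAlgebra.single m r)) = _
    rw [LinearMap.mul'_apply, hs, mul_smul_comm]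
  have hPm : ∀ (n : M) (c : C) (m : M), E.P n (E.ψ c * G m) = if m = n then E.ψ c * G m else 0 := fun n c m =>
    E.P_of_mem (by simpa using E.mul_mem_W (E.psi_mem c) (hGW m)) n
  have hsurj : Function.Surjective Θ := by
    intro a
    obtain ⟨S, hS, -⟩ := E.exists_decomp a
    have hmem : ∀ m, ∃ c, E.ψ c * G m = E.P m a := fun m => by
      have h1 : HopfAlgebra.antipode K (G m) ∈ E.W m⁻¹ := E.antipode_mem (E.Q_eq_P hconn) (hGW m)
      obtain ⟨c, hc⟩ := E.mem_range_of_mem_W (show E.P m a * HopfAlgebra.antipode K (G m) ∈ E.W 1 by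
        have := E.mul_mem_W (E.P_mem m a) h1
        rwa [mul_inv_cancel] at this)
      exact ⟨c, by rw [hc, mul_assoc, (groupLike_antipode (hG m)).2, mul_one]⟩
    choose c hc using hmem
    refine ⟨∑ m ∈ S, c m ⊗ₜ[K] MonoidAlgebra.single m (1 : K), ?_⟩
    rw [map_sum]
    refine Eq.trans (Finset.sum_congr rfl fun m _ => ?_) hS.symm
    rw [hΘ, one_smul, hc]
  have hinj : Function.Injective Θ := by
    refine (injective_iff_map_eq_zero Θ).mpr fun z hz => ?_
    let b : Module.Basis M K (MonoidAlgebra K M) := Finsupp.basisSingleOne.map (MonoidAlgebra.coeffLinearEquiv K).symm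
    let w := TensorProduct.equivFinsuppOfBasisRight b z
    have hzw : z = ∑ m ∈ w.support, w m ⊗ₜ[K] MonoidAlgebra.single m (1 : K) := by
      have := (TensorProduct.equivFinsuppOfBasisRight b).symm_apply_apply z
      rw [TensorProduct.equivFinsuppOfBasisRight_symm_apply] at this
      refine this.symm.trans (Finset.sum_congr rfl fun m _ => ?_)
      simp [b, w]
    refine hzw.trans (Finset.sum_eq_zero fun n hn => ?_)
    have h1 := congrArg (E.P n) ((congrArg Θ hzw.symm).trans hz)
    rw [map_sum, map_sum, map_zero] at h1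
    simp only [hΘ, one_smul, hPm] at h1
    rw [Finset.sum_ite_eq', if_pos hn] at h1
    have h2 : E.ψ (w n) = 0 := by
      calc E.ψ (w n) = E.ψ (w n) * (HopfAlgebra.antipode K (G n) * G n) := by
            rw [(groupLike_antipode (hG n)).2, mul_one]
        _ = 0 := by rw [mul_left_comm, h1, mul_zero]
    rw [E.inj (h2.trans (map_zero E.ψ).symm), TensorProduct.zero_tmul]
  let e := BialgEquiv.ofBijective Θ ⟨hinj, hsurj⟩
  let pr : C ⊗[K] MonoidAlgebra K M →ₐc[K] C :=
    ((Bialgebra.TensorProduct.rid K K C : C ⊗[K] K →ₐc[K] C)).comp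
      (Bialgebra.TensorProduct.map (BialgHom.id K C) (Bialgebra.counitBialgHom K (MonoidAlgebra K M)))
  let r : A →ₐc[K] C := pr.comp (e.symm : A →ₐc[K] C ⊗[K] MonoidAlgebra K M)
  have hr : ∀ c m, r (E.ψ c * G m) = c := by
    intro c m
    have : e.symm (E.ψ c * G m) = c ⊗ₜ[K] MonoidAlgebra.single m (1 : K) := by
      refine e.injective ?_
      exact (e.toEquiv.apply_symm_apply _).trans ((one_smul K _).symm.trans (hΘ c m 1).symm)
    show pr (e.symm (E.ψ c * G m)) = c
    rw [this]
    show Bialgebra.TensorProduct.rid K K C (c ⊗ₜ[K] Coalgebra.counit (R := K) (MonoidAlgebra.single m (1 : K))) = c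
    simp
  have hG1 : G 1 = 1 := congrArg GroupLike.val (Gh.map_one)
  refine ⟨r, fun c => by have := hr c 1; rwa [hG1, mul_one] at this, fun r' h1 h2 a => ?_⟩
  obtain ⟨z, rfl⟩ := hsurj a
  induction z using TensorProduct.induction_on with
  | zero => simp
  | add x y hx hy => simp only [map_add, hx, hy]
  | tmul c x =>
    induction x using MonoidAlgebra.induction_linear with
    | zero => simp
    | add x y hx hy => simp only [TensorProduct.tmul_add, map_add, hx, hy]
    | single m s =>
      rw [hΘ, map_smul, map_smul, hr, map_mul, h1, h2 _ (hG m), mul_one]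

end Ext

end Groth.Agent.ExtMultLib
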